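import Groth.Agent.Lib.GabLocB.Closed
import Groth.Prelude.Def_W4c5qcohlocdualityLoc
import Mathlib.CategoryTheory.Abelian.GrothendieckCategory.EnoughInjectives
import Mathlib.CategoryTheory.Abelian.GrothendieckCategory.Subobject

/-!
# The localizing closure by transfinite filtrations
-/

set_option autoImplicit false
set_option backward.isDefEq.respectTransparency false
set_option backward.defeqAttrib.useBackward true

universe w v u

open CategoryTheory CategoryTheory.Limits ZeroObject

namespace GrothLib.GabLoc18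

variable {C : Type u} [Category.{v} C] [Abelian C]

section Closed

variable [IsGrothendieckAbelian.{w} C] {P : ObjectProperty C}

/-- The whole of a class consists of subquotients of coproducts. -/
theorem subquotCoprod_of_mem {X : C} (h : P X) : GabLoc.subquotCoprod.{w} P X :=
  ⟨PUnit.{w + 1}, fun _ => X, fun _ => h, X, Sigma.ι (fun _ : PUnit.{w + 1} => X) PUnit.unit, 𝟙 X,
    inferInstance, inferInstance⟩

theorem subquotCoprod_of_epi {X Y : C} (f : X ⟶ Y) [Epi f] (h : GabLoc.subquotCoprod.{w} P X) :
    GabLoc.subquotCoprod.{w} P Y := by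
  obtain ⟨J, Z, hZ, B, i, p, hi, hp⟩ := h
  haveI := hp
  exact ⟨J, Z, hZ, B, i, p ≫ f, hi, epi_comp p f⟩

theorem subquotCoprod_of_isZero {X : C} (h : IsZero X) : GabLoc.subquotCoprod.{w} P X :=
  ⟨PEmpty.{w + 1}, fun j => j.elim, fun j => j.elim, 0, 0, 0,
    ⟨fun {Z} a b _ => (isZero_zero C).eq_of_tgt a b⟩, ⟨fun {Z} a b _ => h.eq_of_src a b⟩⟩

/-- Localizing classes contain subquotients of coproducts. -/
theorem subquotCoprod_le {Q : ObjectProperty C} (hQ : GabLoc.IsLocalizing.{w} Q) (h : P ≤ Q) :
    GabLoc.subquotCoprod.{w} P ≤ Q := by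
  rintro X ⟨J, Z, hZ, B, i, p, hi, hp⟩
  haveI := hQ.isSerreClass
  haveI := hQ.isClosedUnderCoproducts J
  exact Q.prop_of_epi p (Q.prop_of_mono i (Q.prop_colimit _ fun j => h _ (hZ j.as)))

/-- Localizing classes are closed under colimits. -/
theorem prop_of_isColimit {Q : ObjectProperty C} (hQ : GabLoc.IsLocalizing.{w} Q) {J : Type w}
    [SmallCategory J] {F : J ⥤ C} {c : Cocone F} (hc : IsColimit c) (h : ∀ j, Q (F.obj j)) : Q c.pt := by
  haveI := hQ.isSerreClass
  haveI := hQ.isClosedUnderCoproducts J
  haveI : Epi (Sigma.desc c.ι.app) := ⟨fun {Z} a b e => hc.hom_ext fun j => by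
    simpa using congrArg (fun k => Sigma.ι F.obj j ≫ k) e⟩
  exact Q.prop_of_epi (Sigma.desc c.ι.app) (Q.prop_colimit (Discrete.functor F.obj) fun j => h j.as)

variable (P) in
/-- Objects all of whose nonzero subquotients contain a nonzero subquotient of a coproduct. -/
def Semi : ObjectProperty C := fun X =>
  ∀ ⦃T Y : C⦄ (t : T ⟶ X) (π : T ⟶ Y), Mono t → Epi π → ¬ IsZero Y →
    ∃ (S : C) (s : S ⟶ Y), Mono s ∧ ¬ IsZero S ∧ GabLoc.subquotCoprod.{w} P S

theorem semi_of_mem {X : C} (h : P X) : Semi.{w} P X := fun T Y t π ht hπ hY =>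
  ⟨Y, 𝟙 Y, inferInstance, hY, ⟨PUnit.{w + 1}, fun _ => X, fun _ => h, T,
    t ≫ Sigma.ι (fun _ : PUnit.{w + 1} => X) PUnit.unit, π, mono_comp _ _, hπ⟩⟩

theorem semi_mono {X Y : C} (f : X ⟶ Y) [Mono f] (h : Semi.{w} P Y) : Semi.{w} P X :=
  fun _ _ t π _ hπ hY => h (t ≫ f) π (mono_comp _ _) hπ hY

theorem semi_epi {X Y : C} (f : X ⟶ Y) [Epi f] (h : Semi.{w} P X) : Semi.{w} P Y :=
  fun T Z t π _ hπ hZ => h (pullback.fst f t) (pullback.snd f t ≫ π) inferInstance (epi_comp _ _) hZ

theorem semi_zero {X : C} (h : IsZero X) : Semi.{w} P X := fun T Y t π ht hπ hY =>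
  absurd (IsZero.of_epi π (IsZero.of_mono t h)) hY

theorem semi_extension {S : ShortComplex C} (hS : S.ShortExact) (h₁ : Semi.{w} P S.X₁)
    (h₃ : Semi.{w} P S.X₃) : Semi.{w} P S.X₂ := by
  intro T Y t π ht hπ hY
  haveI := hS.mono_f
  let k := pullback.fst t S.f ≫ π
  by_cases hk : k = 0
  · let e := Abelian.factorThruImage (t ≫ S.g)
    have hker : kernel.ι e ≫ π = 0 := by
      have h0 : (kernel.ι e ≫ t) ≫ S.g = 0 := by
        exact (Category.assoc _ _ _).trans ((congrArg (kernel.ι e ≫ ·) (Abelian.image.fac _)).symm.trans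
          (by rw [kernel.condition_assoc, zero_comp]))
      obtain ⟨l, hl⟩ := KernelFork.IsLimit.lift' hS.fIsKernel _ h0
      have h2 : pullback.lift (kernel.ι e) l hl.symm ≫ pullback.fst t S.f = kernel.ι e := pullback.lift_fst _ _ _
      rw [← h2, Category.assoc]
      exact (congrArg (_ ≫ ·) hk).trans comp_zero
    obtain ⟨m, hm⟩ := CokernelCofork.IsColimit.desc'
      (Abelian.epiIsCokernelOfKernel (KernelFork.ofι (kernel.ι e) (kernel.condition e)) (kernelIsKernel e)) π hker
    have hm' : e ≫ m = π := hm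
    haveI : Epi m := epi_of_epi_fac hm'
    exact h₃ (Abelian.image.ι (t ≫ S.g)) m inferInstance inferInstance hY
  · obtain ⟨R, r, hr, hR, hR'⟩ := h₁ (pullback.snd t S.f) (Abelian.factorThruImage k) inferInstance
      inferInstance (fun hz => hk (by rw [← Abelian.image.fac k, hz.eq_of_tgt (Abelian.factorThruImage k) 0,
        zero_comp]))
    exact ⟨R, r ≫ Abelian.image.ι k, mono_comp _ _, hR, hR'⟩

theorem semi_finset {α : Type*} (Y : α → C) (hY : ∀ a, Semi.{w} P (Y a)) (s : Finset α) :
    Semi.{w} P (∐ fun x : s => Y x.1) := by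
  classical
  induction s using Finset.induction_on with
  | empty => exact semi_zero ((IsZero.iff_id_eq_zero _).2 (Sigma.hom_ext _ _ fun x => absurd x.2 (Finset.notMem_empty _)))
  | @insert a s ha ih =>
    let Z := fun x : (insert a s : Finset α) => Y x.1
    let φ : Y a ⊞ (∐ fun x : s => Y x.1) ⟶ ∐ Z :=
      biprod.desc (Sigma.ι Z ⟨a, Finset.mem_insert_self _ _⟩)
        (Sigma.desc fun x => Sigma.ι Z ⟨x.1, Finset.mem_insert_of_mem x.2⟩)
    haveI : Epi φ := by
      refine ⟨fun f g h => Sigma.hom_ext _ _ fun x => ?_⟩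
      obtain ⟨x, hx⟩ := x
      rcases Finset.mem_insert.1 hx with rfl | hx'
      · have := congrArg (fun t => biprod.inl ≫ t) h
        simpa [φ] using this
      · have := congrArg (fun t => Sigma.ι (fun x : s => Y x.1) ⟨x, hx'⟩ ≫ biprod.inr ≫ t) h
        simpa [φ] using this
    refine semi_epi φ (semi_extension (S := ShortComplex.mk (biprod.inl : Y a ⟶ _) biprod.snd (by simp)) ?_
      (hY a) ih)
    exact (ShortComplex.Splitting.ofHasBinaryBiproduct (Y a) _).shortExact

theorem semi_isColimit {J : Type w} [SmallCategory J] [IsFiltered J] {F : J ⥤ C} {c : Cocone F}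
    (hc : IsColimit c) (hF : ∀ j, Semi.{w} P (F.obj j)) : Semi.{w} P c.pt := by
  intro T Y t π ht hπ hY
  let Q := pullback c.ι ((Functor.const J).map t)
  let p : Q ⟶ (Functor.const J).obj T := pullback.snd c.ι ((Functor.const J).map t)
  haveI : Mono ((Functor.const J).map t) :=
    haveI : ∀ j, Mono (((Functor.const J).map t).app j) := fun _ => ht
    NatTrans.mono_of_mono_app _
  have hj : ∀ j, Mono ((pullback.fst c.ι ((Functor.const J).map t)).app j) := fun j =>
    (NatTrans.mono_iff_mono_app _).1 inferInstance j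
  haveI := IsGrothendieckAbelian.IsPresentable.surjectivity.isIso_f hc t
  let f := IsGrothendieckAbelian.IsPresentable.surjectivity.f (c := c) t
  have hπ0 : π ≠ 0 := fun h0 => by
    subst h0
    exact hY (IsZero.of_epi_zero T Y)
  obtain ⟨j, hne⟩ : ∃ j, p.app j ≫ π ≠ 0 := by
    by_contra hall
    push Not at hall
    refine hπ0 ((cancel_epi f).1 (colimit.hom_ext fun j => ?_))
    rw [← Category.assoc, ← Category.assoc,
      IsGrothendieckAbelian.IsPresentable.surjectivity.hf (c := c) t j, comp_zero]
    exact hall j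
  obtain ⟨R, r, hr, hR, hR'⟩ := hF j ((pullback.fst c.ι ((Functor.const J).map t)).app j)
    (Abelian.factorThruImage (p.app j ≫ π)) (hj j) inferInstance (fun hz => hne (by
      rw [← Abelian.image.fac (p.app j ≫ π), hz.eq_of_tgt (Abelian.factorThruImage _) 0, zero_comp]))
  exact ⟨R, r ≫ Abelian.image.ι _, mono_comp _ _, hR, hR'⟩

theorem semi_isLocalizing : GabLoc.IsLocalizing.{w} (Semi.{w} P) := by
  haveI : (Semi.{w} P).IsClosedUnderSubobjects := ⟨fun f _ h => semi_mono f h⟩
  haveI : (Semi.{w} P).IsClosedUnderQuotients := ⟨fun f _ h => semi_epi f h⟩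
  haveI : (Semi.{w} P).IsClosedUnderExtensions := ⟨fun hT h1 h3 => semi_extension hT h1 h3⟩
  haveI : (Semi.{w} P).ContainsZero := ⟨⟨0, isZero_zero C, semi_zero (isZero_zero C)⟩⟩
  refine ⟨{}, fun J => ⟨?_⟩⟩
  rintro X ⟨p⟩
  classical
  let e := (p.isColimit.coconePointUniqueUpToIso (colimit.isColimit p.diag)) ≪≫
    HasColimit.isoOfNatIso (Discrete.natIsoFunctor (F := p.diag))
  refine semi_mono e.hom ?_
  let Y : J → C := fun j => p.diag.obj ⟨j⟩
  refine semi_isColimit (c := CoproductsFromFiniteFiltered.finiteSubcoproductsCocone Y)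
    (CoproductsFromFiniteFiltered.isColimitFiniteSubproductsCocone Y) fun s => ?_
  exact semi_finset (fun x : Discrete J => Y x.as) (fun x => p.prop_diag_obj ⟨x.as⟩) s

theorem semi_of_locClosure {X : C} (h : GabLoc.locClosure.{w} P X) : Semi.{w} P X :=
  h _ semi_isLocalizing fun _ hX => semi_of_mem hX

end Closed

section Filtration

variable [IsGrothendieckAbelian.{w} C] {W : MorphismProperty C} {X : C}
  (next : Subobject X → Subobject X) (hle : ∀ A, A ≤ next A)

/-- The filtration by iteration, as subobjects. -/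
noncomputable def functorToMonoOver (A₀ : Subobject X) (J : Type w) [LinearOrder J] [OrderBot J]
    [SuccOrder J] [WellFoundedLT J] : J ⥤ MonoOver X where
  obj j := MonoOver.mk (transfiniteIterate next j A₀).arrow
  map {j j'} f := MonoOver.homMk (Subobject.ofLE _ _ (monotone_transfiniteIterate _ _ hle (leOfHom f)))

/-- The filtration by iteration. -/
noncomputable abbrev functor (A₀ : Subobject X) (J : Type w) [LinearOrder J] [OrderBot J]
    [SuccOrder J] [WellFoundedLT J] : J ⥤ C :=
  functorToMonoOver next hle A₀ J ⋙ MonoOver.forget _ ⋙ Over.forget _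

theorem isWellOrderContinuous_functor (A₀ : Subobject X) (J : Type w) [LinearOrder J] [OrderBot J]
    [SuccOrder J] [WellFoundedLT J] : (functor next hle A₀ J).IsWellOrderContinuous where
  nonempty_isColimit m hm := ⟨by
    have := hm.nonempty_Iio.to_subtype
    let c := (Set.principalSegIio m).cocone (functorToMonoOver next hle A₀ J ⋙ MonoOver.forget _)
    have : Mono c.pt.hom := by dsimp [c, functorToMonoOver]; infer_instance
    apply IsGrothendieckAbelian.isColimitMapCoconeOfSubobjectMkEqISup
      ((Set.principalSegIio m).monotone.functor ⋙ functorToMonoOver next hle A₀ J) c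
    dsimp [c, functorToMonoOver]
    simp only [Subobject.mk_arrow]
    exact transfiniteIterate_limit next A₀ m hm⟩

variable (hlt : ∀ A, A ≠ ⊤ → A < next A) (hW : ∀ A, W (Subobject.ofLE _ _ (hle A))) [W.RespectsIso]

include hle hlt hW in
theorem transfiniteCompositions_of_iterate :
    MorphismProperty.transfiniteCompositions.{w} W (0 : (0 : C) ⟶ X) := by
  let κ := Order.succ (Cardinal.mk (Shrink.{w} (Subobject X)))
  have : Nonempty κ.ord.ToType := by simp [κ]
  letI := WellFoundedLT.toOrderBot κ.ord.ToType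
  let A₀ : Subobject X := Subobject.mk (0 : (0 : C) ⟶ X)
  have hcard : HasCardinalLT (Subobject X) (Cardinal.mk κ.ord.ToType) :=
    (hasCardinalLT_iff_of_equiv (equivShrink.{w} (Subobject X)) _).2 (by
      rw [hasCardinalLT_iff_cardinal_mk_lt]; simp [κ, Order.lt_succ])
  obtain ⟨j, hj⟩ : ∃ j : κ.ord.ToType, transfiniteIterate next j A₀ = ⊤ := by
    refine top_mem_range_transfiniteIterate next A₀ hlt ?_ (fun h ↦ by
      simpa [hasCardinalLT_iff_cardinal_mk_lt] using hcard.of_injective _ h)
    exact le_antisymm le_top (hle ⊤)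
  haveI := isWellOrderContinuous_functor next hle A₀ κ.ord.ToType
  let F := functor next hle A₀ κ.ord.ToType
  let t : W.TransfiniteCompositionOfShape (Set.Iic j) (F.map (homOfLE bot_le : ⊥ ⟶ j)) :=
    { F := (Set.initialSegIic j).monotone.functor ⋙ F
      isoBot := Iso.refl _
      incl :=
        { app k := F.map (homOfLE k.2)
          naturality k k' h := by
            change F.map ((Set.initialSegIic j).monotone.functor.map h) ≫ F.map (homOfLE k'.2) =
              F.map (homOfLE k.2) ≫ 𝟙 _
            rw [← F.map_comp, Category.comp_id]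
            rfl }
      isColimit := colimitOfDiagramTerminal isTerminalTop _
      fac := by exact Category.id_comp _
      map_mem k hk := by
        dsimp [F, MonoOver.forget, functorToMonoOver]
        convert! hW (transfiniteIterate next k.1 A₀) using 2
        all_goals
          rw [Set.Iic.succ_eq_of_not_isMax hk,
            transfiniteIterate_succ _ _ _ (Set.not_isMax_coe _ hk)] }
  haveI := (Subobject.isIso_arrow_iff_eq_top (transfiniteIterate next j A₀)).2 hj
  have t' : W.TransfiniteCompositionOfShape (Set.Iic j) (0 : (0 : C) ⟶ X) := by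
    refine t.ofArrowIso (Arrow.isoMk ((Subobject.isoOfEq _ _ (transfiniteIterate_bot _ _)) ≪≫
      Subobject.underlyingIso _) (asIso (transfiniteIterate next j A₀).arrow) ?_)
    dsimp [F, functorToMonoOver, MonoOver.forget]
    rw [Category.assoc, Subobject.underlyingIso_hom_comp_eq_mk, Subobject.ofLE_arrow, Subobject.ofLE_arrow]
  exact MorphismProperty.transfiniteCompositionsOfShape_le_transfiniteCompositions W _ _ ⟨t'⟩

end Filtration

section Main

variable [IsGrothendieckAbelian.{w} C] (P : ObjectProperty C)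

instance : (GabLoc.monoModSubquot.{w} P).RespectsIso :=
  MorphismProperty.RespectsIso.of_respects_arrow_iso _ fun f g e ⟨hf, h⟩ =>
    ⟨((MorphismProperty.monomorphisms C).arrow_mk_iso_iff e).1 hf,
      subquotCoprod_of_epi (cokernel.mapIso f.hom g.hom (Arrow.leftFunc.mapIso e)
        (Arrow.rightFunc.mapIso e) (Arrow.w e.hom).symm).hom h⟩

variable {P}

theorem exists_next {X : C} (h : Semi.{w} P X) (A : Subobject X) (hA : A ≠ ⊤) :
    ∃ (A' : Subobject X) (hl : A < A'), GabLoc.subquotCoprod.{w} P (cokernel (Subobject.ofLE A A' hl.le)) := by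
  have hY : ¬ IsZero (cokernel A.arrow) := fun hz => hA (by
    haveI : Epi A.arrow := Abelian.epi_of_cokernel_π_eq_zero _ (hz.eq_of_tgt _ _)
    haveI : IsIso A.arrow := isIso_of_mono_of_epi _
    exact (Subobject.isIso_arrow_iff_eq_top A).1 inferInstance)
  obtain ⟨S, s, hs, hS, hS'⟩ := h (𝟙 X) (cokernel.π A.arrow) inferInstance inferInstance hY
  let q := pullback.fst (cokernel.π A.arrow) s
  let r := pullback.snd (cokernel.π A.arrow) s
  let a : (A : C) ⟶ pullback (cokernel.π A.arrow) s := pullback.lift A.arrow 0 (by simp)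
  have haq : a ≫ q = A.arrow := pullback.lift_fst _ _ _
  have hle : A ≤ Subobject.mk q := Subobject.le_mk_of_comm a haq
  have hne : A ≠ Subobject.mk q := fun he => hS (by
    have h0 : q ≫ cokernel.π A.arrow = 0 := by
      have : q = (Subobject.underlyingIso q).inv ≫ Subobject.ofLE _ _ he.ge ≫ A.arrow := by simp
      rw [this, Category.assoc, Category.assoc, cokernel.condition, comp_zero, comp_zero]
    have h1 : r ≫ s = 0 := by rw [← pullback.condition, h0]
    haveI : Epi r := inferInstanceAs (Epi (pullback.snd (cokernel.π A.arrow) s))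
    rw [IsZero.iff_id_eq_zero, ← cancel_epi r, ← cancel_mono s, Category.comp_id, h1, comp_zero, zero_comp])
  refine ⟨Subobject.mk q, lt_of_le_of_ne hle hne, ?_⟩
  haveI : Epi r := inferInstanceAs (Epi (pullback.snd (cokernel.π A.arrow) s))
  let π₁ := (Subobject.underlyingIso q).inv ≫ cokernel.π (Subobject.ofLE A (Subobject.mk q) hle)
  have hker : kernel.ι r ≫ π₁ = 0 := by
    have h0 : (kernel.ι r ≫ q) ≫ cokernel.π A.arrow = 0 := by
      rw [Category.assoc, pullback.condition, kernel.condition_assoc, zero_comp]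
    obtain ⟨l, hl⟩ := KernelFork.IsLimit.lift'
      (Abelian.monoIsKernelOfCokernel _ (cokernelIsCokernel A.arrow)) _ h0
    have hl' : l ≫ A.arrow = kernel.ι r ≫ q := hl
    have : kernel.ι r ≫ (Subobject.underlyingIso q).inv = l ≫ Subobject.ofLE A (Subobject.mk q) hle := by
      apply (cancel_mono (Subobject.mk q).arrow).1
      simp [hl']
    simp only [π₁]
    rw [← Category.assoc, this, Category.assoc]
    exact (congrArg (l ≫ ·) (cokernel.condition _)).trans comp_zero
  obtain ⟨m, hm⟩ := CokernelCofork.IsColimit.desc'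
    (Abelian.epiIsCokernelOfKernel (KernelFork.ofι (kernel.ι r) (kernel.condition r)) (kernelIsKernel r)) π₁ hker
  have hm' : r ≫ m = π₁ := hm
  haveI : Epi m := epi_of_epi_fac hm'
  exact subquotCoprod_of_epi m hS'

theorem transfiniteCompositions_of_locClosure {X : C} (h : GabLoc.locClosure.{w} P X) :
    MorphismProperty.transfiniteCompositions.{w} (GabLoc.monoModSubquot.{w} P) (0 : (0 : C) ⟶ X) := by
  classical
  choose next hlt hmem using exists_next (semi_of_locClosure h)
  let next' : Subobject X → Subobject X := fun A => if hA : A = ⊤ then ⊤ else next A hA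
  have hle : ∀ A, A ≤ next' A := fun A => by
    simp only [next']
    split
    · exact le_top
    · exact (hlt A _).le
  refine transfiniteCompositions_of_iterate next' hle (fun A hA => ?_) fun A => ?_
  · simp only [next', dif_neg hA]; exact hlt A hA
  · by_cases hA : A = ⊤
    · subst hA
      haveI : IsIso (Subobject.ofLE ⊤ (next' ⊤) (hle ⊤)) := by
        haveI : IsIso (next' ⊤).arrow := (Subobject.isIso_arrow_iff_eq_top _).2 (by simp [next'])
        haveI : IsIso (Subobject.ofLE ⊤ (next' ⊤) (hle ⊤) ≫ (next' ⊤).arrow) := by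
          rw [Subobject.ofLE_arrow]; infer_instance
        exact IsIso.of_isIso_comp_right _ (next' ⊤).arrow
      exact ⟨inferInstance, subquotCoprod_of_isZero (isZero_cokernel_of_epi _)⟩
    · refine (MorphismProperty.arrow_mk_iso_iff (GabLoc.monoModSubquot.{w} P) ?_).1
        (show GabLoc.monoModSubquot.{w} P (Subobject.ofLE A (next A hA) (hlt A hA).le) from
          ⟨inferInstance, hmem A hA⟩)
      exact Arrow.isoMk (Iso.refl _) (Subobject.isoOfEq _ _ (by simp [next', dif_neg hA]))

theorem locClosure_of_transfiniteCompositions {X : C}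
    (h : MorphismProperty.transfiniteCompositions.{w} (GabLoc.monoModSubquot.{w} P) (0 : (0 : C) ⟶ X)) :
    GabLoc.locClosure.{w} P X := by
  intro Q hQ hPQ
  haveI := hQ.isSerreClass
  rw [MorphismProperty.transfiniteCompositions_iff] at h
  obtain ⟨J, _, _, _, _, ⟨t⟩⟩ := h
  haveI := t.isWellOrderContinuous
  refine prop_of_isColimit hQ t.isColimit fun j => ?_
  induction j using SuccOrder.limitRecOn with
  | isMin j hj =>
    obtain rfl := isMin_iff_eq_bot.1 hj
    exact Q.prop_of_mono t.isoBot.hom (Q.prop_of_isZero (isZero_zero C))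
  | succ j hj ih =>
    obtain ⟨hm, hc⟩ := t.map_mem j hj
    haveI := hm
    let f := t.F.map (homOfLE (Order.le_succ j))
    exact Q.prop_X₂_of_shortExact (S := ShortComplex.mk f (cokernel.π f) (cokernel.condition f))
      { exact := ShortComplex.exact_of_g_is_cokernel _ (cokernelIsCokernel f) } ih (subquotCoprod_le hQ hPQ _ hc)
  | isSuccLimit j hj ih =>
    exact prop_of_isColimit hQ (t.F.isColimitOfIsWellOrderContinuous j hj) fun k => ih k.1 k.2

end Main

end GrothLib.GabLoc18
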